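import Mathlib

/-! # Flatness of separated complete filtered modules with projective quotients -/

set_option autoImplicit false
universe u

namespace Groth.Agent.CT6

theorem flat_of_complete_filtration (R : Type u) (M : Type u) [CommRing R] [IsNoetherianRing R] [AddCommGroup M]
    [Module R M] (F : ℕ → Submodule R M) (hF : Antitone F) (hF0 : F 0 = ⊤)
    (hproj : ∀ n, Module.Projective R (M ⧸ F n)) (hsep : ∀ x, (∀ n, x ∈ F n) → x = 0)
    (hcomp : ∀ s : ℕ → M, (∀ n, s (n + 1) - s n ∈ F n) → ∃ L, ∀ n, L - s n ∈ F n) : Module.Flat R M := by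
  classical
  rw [Module.Flat.iff_forall_isTrivialRelation]
  intro l f x hfx
  let K : Submodule R (Fin l → R) := LinearMap.ker (Fintype.linearCombination R f)
  obtain ⟨m, r, hr⟩ := Submodule.fg_iff_exists_fin_generating_family.1 (IsNoetherian.noetherian K)
  have hrK : ∀ j, ∑ i, f i * r j i = 0 := fun j => by
    have : r j ∈ K := hr ▸ Submodule.subset_span ⟨j, rfl⟩
    simpa [K, Fintype.linearCombination_apply, mul_comm] using this
  -- one approximation step
  have step : ∀ n (e : Fin l → M), (∀ i, e i ∈ F n) → ∑ i, f i • e i = 0 →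
      ∃ z : Fin m → M, (∀ j, z j ∈ F n) ∧ ∀ i, e i - ∑ j, r j i • z j ∈ F (n + 1) := by
    intro n e he hfe
    haveI := hproj (n + 1)
    have hq : ∑ i, f i • (F (n + 1)).mkQ (e i) = 0 := by
      simp only [← map_smul, ← map_sum, hfe, map_zero]
    obtain ⟨κ, a, y, hay, ha⟩ := Module.Flat.iff_forall_isTrivialRelation.1 inferInstance hq
    have hc : ∀ j, ∃ c : Fin m → R, ∑ k, c k • r k = fun i => a i j := fun j => by
      have : (fun i => a i j) ∈ K := by simpa [K, Fintype.linearCombination_apply, mul_comm] using ha j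
      rw [← hr] at this
      exact (Submodule.mem_span_range_iff_exists_fun R).1 this
    choose c hc using hc
    let w : Fin m → M ⧸ F (n + 1) := fun k => ∑ j, c j k • y j
    have hw : ∀ i, (F (n + 1)).mkQ (e i) = ∑ k, r k i • w k := fun i => by
      refine (hay i).trans ?_
      simp only [w, Finset.smul_sum]
      rw [Finset.sum_comm]
      refine Finset.sum_congr rfl fun j _ => ?_
      have hji : a i j = (∑ k, c j k • r k) i := (congrFun (hc j) i).symm
      rw [hji]
      simp only [Finset.sum_apply, Pi.smul_apply, smul_eq_mul, Finset.sum_smul, smul_smul, mul_comm]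
    let π : M ⧸ F (n + 1) →ₗ[R] M ⧸ F n := Submodule.factor (hF n.le_succ)
    haveI := hproj n
    obtain ⟨s, hs⟩ := Module.projective_lifting_property π LinearMap.id (Submodule.factor_surjective _)
    choose z hz using fun k => Submodule.Quotient.mk_surjective (F (n + 1)) (w k - s (π (w k)))
    refine ⟨z, fun k => ?_, fun i => ?_⟩
    · rw [← Submodule.Quotient.mk_eq_zero]
      have h1 := congrArg π (hz k)
      rw [map_sub, show π (s (π (w k))) = π (w k) from LinearMap.congr_fun hs _, sub_self] at h1
      exact h1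
    · rw [← Submodule.Quotient.mk_eq_zero]
      change (F (n + 1)).mkQ (e i - ∑ j, r j i • z j) = 0
      simp only [map_sub, map_sum, map_smul]
      have h2 : ∀ j, (F (n + 1)).mkQ (z j) = w j - s (π (w j)) := hz
      simp only [h2, smul_sub, Finset.sum_sub_distrib, ← map_smul, ← map_sum]
      rw [← hw i, show π ((F (n + 1)).mkQ (e i)) = 0 from (Submodule.Quotient.mk_eq_zero _).2 (he i), map_zero, sub_zero,
        sub_self]
  -- iterate
  let P : ℕ → (Fin m → M) → Prop := fun n S => ∀ i, x i - ∑ j, r j i • S j ∈ F n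
  have hP0 : P 0 0 := fun i => by rw [hF0]; trivial
  have next' : ∀ n S, P n S → ∃ S', P (n + 1) S' ∧ ∀ j, S' j - S j ∈ F n := by
    intro n S hS
    obtain ⟨z, hz, hz'⟩ := step n (fun i => x i - ∑ j, r j i • S j) hS (by
      simp only [smul_sub, Finset.sum_sub_distrib, hfx, zero_sub, Finset.smul_sum, smul_smul]
      rw [Finset.sum_comm, neg_eq_zero]
      refine Finset.sum_eq_zero fun j _ => ?_
      rw [← Finset.sum_smul, hrK j, zero_smul])
    refine ⟨S + z, fun i => ?_, fun j => by simpa using hz j⟩
    simpa [P, smul_add, Finset.sum_add_distrib, sub_add_eq_sub_sub] using hz' i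
  choose g hg hg' using next'
  let S : (n : ℕ) → {S : Fin m → M // P n S} :=
    fun n => Nat.rec ⟨0, hP0⟩ (fun i S => ⟨g i S.1 S.2, hg i S.1 S.2⟩) n
  choose L hL using fun j => hcomp (fun n => (S n).1 j) fun n => hg' n _ (S n).2 j
  refine ⟨m, fun i j => r j i, L, fun i => sub_eq_zero.1 (hsep _ fun n => ?_), hrK⟩
  have h1 := sub_mem ((S n).2 i) (sum_mem fun j (_ : j ∈ Finset.univ) => (F n).smul_mem (r j i) (hL j n))
  simpa [smul_sub, Finset.sum_sub_distrib] using h1

end Groth.Agent.CT6
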