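import Groth.Prelude.Def_EGA4c
import Groth.Agent.Lib.Compl.Noetherian
import Groth.Agent.Lib.Compl.Complete
import Groth.Agent.Lib.CT6.Filtration
import Groth.Agent.Lib.FormalH7.FlatCplMap
import Mathlib

/-! # Completed tensor products of complete local algebras over a field -/

set_option autoImplicit false
set_option linter.style.haveILetI false
universe u

open TensorProduct IsLocalRing

namespace Groth.Agent.CT6

theorem mem_of_forall_mem_sup_pow {R : Type u} [CommRing R] [IsNoetherianRing R] {K I : Ideal R}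
    (hI : I ≤ (⊥ : Ideal R).jacobson) {x : R} (h : ∀ m, x ∈ K ⊔ I ^ m) : x ∈ K := by
  rw [← Ideal.Quotient.eq_zero_iff_mem (I := K), ← Submodule.mem_bot (R := R) (M := R ⧸ K),
    ← Ideal.iInf_pow_smul_eq_bot_of_le_jacobson (M := R ⧸ K) I hI, Submodule.mem_iInf]
  intro m
  obtain ⟨a, ha, b, hb, rfl⟩ := Submodule.mem_sup.1 (h m)
  rw [map_add, Ideal.Quotient.eq_zero_iff_mem.2 ha, zero_add]
  have := Submodule.smul_mem_smul hb (Submodule.mem_top : (1 : R ⧸ K) ∈ (⊤ : Submodule R (R ⧸ K)))
  rwa [Algebra.smul_def, mul_one] at this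

/-- Completeness passes to smaller ideals of a Noetherian ring. -/
theorem isAdicComplete_of_le {R : Type u} [CommRing R] [IsNoetherianRing R] {I J : Ideal R} [IsAdicComplete I R]
    (h : J ≤ I) : IsAdicComplete J R := by
  have hle : ∀ n, (J ^ n • ⊤ : Submodule R R) ≤ I ^ n • ⊤ := fun n => Submodule.smul_mono_left (Ideal.pow_right_mono h n)
  haveI : IsHausdorff J R := ⟨fun x hx => IsHausdorff.haus' (I := I) x fun n => (hx n).mono (hle n)⟩
  haveI : IsPrecomplete J R := ⟨fun f hf => by
    obtain ⟨L, hL⟩ := IsPrecomplete.prec (I := I) inferInstance (f := f) fun {a b} hab => (hf hab).mono (hle a)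
    refine ⟨L, fun n => ?_⟩
    rw [SModEq.sub_mem, smul_eq_mul, Ideal.mul_top]
    refine mem_of_forall_mem_sup_pow (IsAdicComplete.le_jacobson_bot I) fun m => ?_
    have h1 := hf (le_max_left n m)
    have h2 := hL (max n m)
    rw [SModEq.sub_mem, smul_eq_mul, Ideal.mul_top] at h1 h2
    rw [← sub_add_sub_cancel (f n) (f (max n m)) L]
    exact add_mem (Ideal.mem_sup_left h1) (Ideal.mem_sup_right (Ideal.pow_le_pow_right (le_max_right n m) h2))⟩
  constructor

theorem finite_quotient_pow (k A : Type u) [Field k] [CommRing A] [IsLocalRing A] [IsNoetherianRing A]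
    [Algebra k A] [Module.Finite k (ResidueField A)] (n : ℕ) : Module.Finite k (A ⧸ maximalIdeal A ^ n) := by
  classical
  obtain ⟨l, v, hv⟩ := Submodule.fg_iff_exists_fin_generating_family.1
    (Module.Finite.fg_top (R := k) (M := ResidueField A))
  choose v' hv' using fun i => residue_surjective (R := A) (v i)
  obtain ⟨r, a, ha⟩ := Submodule.fg_iff_exists_fin_generating_family.1 (IsNoetherian.noetherian (maximalIdeal A))
  let V : Submodule k A := Submodule.span k (Set.range v')
  have hV : ∀ x : A, ∃ y ∈ V, x - y ∈ maximalIdeal A := fun x => by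
    obtain ⟨c, hc⟩ := (Submodule.mem_span_range_iff_exists_fun k).1 (hv ▸ Submodule.mem_top : residue A x ∈ _)
    refine ⟨∑ i, c i • v' i, sum_mem fun i _ => V.smul_mem _ (Submodule.subset_span ⟨i, rfl⟩), ?_⟩
    rw [← residue_eq_zero_iff, map_sub, sub_eq_zero]
    refine hc.symm.trans ?_
    have : ∀ (t : k) (y : A), residue A (t • y) = t • residue A y := fun t y => rfl
    simp only [map_sum, this, hv']
  have key : ∀ n : ℕ, ∃ W : Submodule k A, W.FG ∧ ∀ x : A, ∃ y ∈ W, x - y ∈ maximalIdeal A ^ n := by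
    intro n
    induction n with
    | zero => exact ⟨⊥, Submodule.fg_bot, fun x => ⟨0, zero_mem _, by simp⟩⟩
    | succ n ih =>
      obtain ⟨W, hW, hWx⟩ := ih
      refine ⟨V ⊔ ⨆ i, W.map (LinearMap.mulLeft k (a i)),
        (Submodule.fg_span (Set.finite_range v')).sup (Submodule.fg_iSup _ fun i => hW.map _), fun x => ?_⟩
      obtain ⟨y, hy, hxy⟩ := hV x
      rw [← ha, Submodule.mem_span_range_iff_exists_fun] at hxy
      obtain ⟨c, hc⟩ := hxy
      choose w hw hw' using fun i => hWx (c i)
      refine ⟨y + ∑ i, a i * w i, add_mem (Submodule.mem_sup_left hy)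
        (Submodule.mem_sup_right (sum_mem fun i _ => Submodule.mem_iSup_of_mem i ⟨w i, hw i, rfl⟩)), ?_⟩
      rw [← sub_sub, ← hc, ← Finset.sum_sub_distrib]
      refine sum_mem fun i _ => ?_
      rw [smul_eq_mul, show c i * a i - a i * w i = a i * (c i - w i) by ring, pow_succ']
      exact Ideal.mul_mem_mul (ha ▸ Submodule.subset_span ⟨i, rfl⟩) (hw' i)
  obtain ⟨W, hW, hWx⟩ := key n
  have htop : W.map (Ideal.Quotient.mkₐ k (maximalIdeal A ^ n)).toLinearMap = ⊤ := by
    refine Submodule.eq_top_iff'.2 fun q => ?_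
    obtain ⟨x, rfl⟩ := Ideal.Quotient.mk_surjective q
    obtain ⟨y, hy, hxy⟩ := hWx x
    exact ⟨y, hy, (Ideal.Quotient.eq.2 hxy).symm⟩
  exact ⟨htop ▸ hW.map _⟩

variable (k A B : Type u) [Field k] [CommRing A] [CommRing B] [Algebra k A] [Algebra k B] [IsLocalRing A] [IsLocalRing B]

/-- The structure map from `A ⊗ B`. -/
noncomputable abbrev o : A ⊗[k] B →+* EGA4.CTensor k A B := algebraMap (A ⊗[k] B) (EGA4.CTensor k A B)

/-- The ideal `m_A (A ⊗ B)`. -/
abbrev mA : Ideal (A ⊗[k] B) :=
  (maximalIdeal A).map (Algebra.TensorProduct.includeLeft : A →ₐ[k] A ⊗[k] B)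

/-- The reduction `A ⊗ B → B ⊗ A/m^n`. -/
noncomputable def theta (n : ℕ) : A ⊗[k] B →ₐ[k] B ⊗[k] (A ⧸ maximalIdeal A ^ n) :=
  (Algebra.TensorProduct.comm k (A ⧸ maximalIdeal A ^ n) B).toAlgHom.comp
    (Algebra.TensorProduct.map (Ideal.Quotient.mkₐ k (maximalIdeal A ^ n)) (AlgHom.id k B))

theorem theta_tmul (n : ℕ) (a : A) (b : B) : theta k A B n (a ⊗ₜ b) = b ⊗ₜ Ideal.Quotient.mk _ a := rfl

theorem theta_surjective (n : ℕ) : Function.Surjective (theta k A B n) :=
  (Algebra.TensorProduct.comm k (A ⧸ maximalIdeal A ^ n) B).surjective.comp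
    (TensorProduct.map_surjective Ideal.Quotient.mk_surjective Function.surjective_id)

theorem ker_theta (n : ℕ) : RingHom.ker (theta k A B n) = mA k A B ^ n := by
  have h1 : RingHom.ker (theta k A B n) =
      RingHom.ker (Algebra.TensorProduct.map (Ideal.Quotient.mkₐ k (maximalIdeal A ^ n)) (AlgHom.id k B)) := by
    ext z
    exact map_eq_zero_iff _ (Algebra.TensorProduct.comm k (A ⧸ maximalIdeal A ^ n) B).injective
  rw [h1, Algebra.TensorProduct.map_ker _ _ (Ideal.Quotient.mkₐ_surjective k _) Function.surjective_id]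
  have h2 : RingHom.ker (AlgHom.id k B) = ⊥ := (RingHom.injective_iff_ker_eq_bot _).1 Function.injective_id
  have h3 : RingHom.ker (Ideal.Quotient.mkₐ k (maximalIdeal A ^ n)) = maximalIdeal A ^ n := by
    ext x
    exact Ideal.Quotient.eq_zero_iff_mem
  rw [h2, Ideal.map_bot, sup_bot_eq, h3, Ideal.map_pow]

theorem map_theta_mA (n : ℕ) : (mA k A B).map (theta k A B n) ^ n = ⊥ := by
  rw [← Ideal.map_pow, Ideal.map_eq_bot_iff_le_ker, ker_theta]

theorem map_theta_cTensorIdeal (n : ℕ) :
    (EGA4.cTensorIdeal k A B).map (theta k A B n) =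
      (mA k A B).map (theta k A B n) ⊔ (maximalIdeal B).map (algebraMap B (B ⊗[k] (A ⧸ maximalIdeal A ^ n))) := by
  have hI : EGA4.cTensorIdeal k A B = mA k A B ⊔
      (maximalIdeal B).map (Algebra.TensorProduct.includeRight : B →ₐ[k] A ⊗[k] B).toRingHom := rfl
  have h : (theta k A B n).toRingHom.comp
      (Algebra.TensorProduct.includeRight : B →ₐ[k] A ⊗[k] B).toRingHom =
        algebraMap B (B ⊗[k] (A ⧸ maximalIdeal A ^ n)) := RingHom.ext fun b => by
    show theta k A B n ((1 : A) ⊗ₜ b) = _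
    rw [theta_tmul, map_one, Algebra.TensorProduct.algebraMap_apply]
    rfl
  rw [hI, Ideal.map_sup]
  congr 1
  rw [← h, ← Ideal.map_map]
  rfl

variable [IsNoetherianRing A] [IsNoetherianRing B] [Module.Finite k (ResidueField A)]

theorem cTensorIdeal_fg : (EGA4.cTensorIdeal k A B).FG := by
  have h1 : Ideal.FG ((maximalIdeal A).map (Algebra.TensorProduct.includeLeft : A →ₐ[k] A ⊗[k] B).toRingHom) :=
    Ideal.FG.map (IsNoetherian.noetherian (maximalIdeal A)) _
  have h2 : Ideal.FG ((maximalIdeal B).map (Algebra.TensorProduct.includeRight : B →ₐ[k] A ⊗[k] B).toRingHom) :=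
    Ideal.FG.map (IsNoetherian.noetherian (maximalIdeal B)) _
  exact Submodule.FG.sup h1 h2

theorem exists_sub_mem (n : ℕ) (c : EGA4.CTensor k A B) :
    ∃ t, c - o k A B t ∈ (EGA4.cTensorIdeal k A B ^ n).map (o k A B) := by
  let I := EGA4.cTensorIdeal k A B
  obtain ⟨t, ht⟩ := Ideal.Quotient.mk_surjective (AdicCompletion.evalₐ I n c)
  refine ⟨t, ?_⟩
  rw [← Submodule.restrictScalars_mem (A ⊗[k] B), ← Ideal.smul_top_eq_map,
    AdicCompletion.pow_smul_top_eq_ker_eval (cTensorIdeal_fg k A B), LinearMap.mem_ker]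
  refine (map_eq_zero_iff (Ideal.quotientEquivAlgOfEq (A ⊗[k] B) (show (I ^ n • ⊤ : Ideal (A ⊗[k] B)) = I ^ n by simp))
    (AlgEquiv.injective _)).1 ?_
  show AdicCompletion.evalₐ I n (c - o k A B t) = 0
  rw [map_sub, AlgHom.commutes, ← ht]
  exact sub_self _

theorem isNoetherianRing_level (n : ℕ) : IsNoetherianRing (B ⊗[k] (A ⧸ maximalIdeal A ^ n)) :=
  haveI := finite_quotient_pow k A n
  IsNoetherianRing.of_finite B _

theorem isNoetherianRing_cTensor : IsNoetherianRing (EGA4.CTensor k A B) := by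
  haveI := isNoetherianRing_level k A B 1
  haveI : IsNoetherianRing ((A ⊗[k] B) ⧸ RingHom.ker (theta k A B 1)) :=
    isNoetherianRing_of_ringEquiv _ (RingHom.quotientKerEquivOfSurjective (theta_surjective k A B 1)).symm
  haveI : IsNoetherianRing ((A ⊗[k] B) ⧸ EGA4.cTensorIdeal k A B) := by
    refine isNoetherianRing_of_surjective ((A ⊗[k] B) ⧸ RingHom.ker (theta k A B 1)) _
      (Ideal.Quotient.factor (?_ : RingHom.ker (theta k A B 1) ≤ EGA4.cTensorIdeal k A B))
      (Ideal.Quotient.factor_surjective _)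
    rw [ker_theta, pow_one]
    exact le_sup_left
  exact Compl.isNoetherianRing_adicCompletion _ (cTensorIdeal_fg k A B)

theorem map_cTensorIdeal_le_jacobson :
    (EGA4.cTensorIdeal k A B).map (o k A B) ≤ (⊥ : Ideal (EGA4.CTensor k A B)).jacobson := by
  haveI := AdicCompletion.isAdicComplete_self (EGA4.cTensorIdeal k A B) (cTensorIdeal_fg k A B)
  exact IsAdicComplete.le_jacobson_bot _

variable [IsAdicComplete (maximalIdeal B) B]

theorem isAdicComplete_level (n : ℕ) :
    IsAdicComplete ((EGA4.cTensorIdeal k A B).map (theta k A B n)) (B ⊗[k] (A ⧸ maximalIdeal A ^ n)) := by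
  let U := B ⊗[k] (A ⧸ maximalIdeal A ^ n)
  haveI := finite_quotient_pow k A n
  haveI : IsAdicComplete (maximalIdeal B) U := Compl.isAdicComplete_of_finite _ U
  haveI : IsAdicComplete ((maximalIdeal B).map (algebraMap B U)) U :=
    (IsAdicComplete.map_algebraMap_iff (maximalIdeal B) U).2 inferInstance
  rw [map_theta_cTensorIdeal]
  refine Compl.isAdicComplete_of_le_of_pow_le U (I := (maximalIdeal B).map (algebraMap B U)) le_sup_right (k := n + 1) ?_
  refine Ideal.sup_pow_add_le_pow_sup_pow.trans (sup_le ?_ (by rw [pow_one]))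
  rw [map_theta_mA]
  exact bot_le

/-- `C → B ⊗ A/m^n`. -/
theorem exists_psi (n : ℕ) : ∃ ψ : EGA4.CTensor k A B →+* B ⊗[k] (A ⧸ maximalIdeal A ^ n),
    (∀ t, ψ (o k A B t) = theta k A B n t) ∧ RingHom.ker ψ = (mA k A B ^ n).map (o k A B) := by
  let T := A ⊗[k] B
  let I := EGA4.cTensorIdeal k A B
  let C := EGA4.CTensor k A B
  let U := B ⊗[k] (A ⧸ maximalIdeal A ^ n)
  let θ : T →+* U := (theta k A B n).toRingHom
  let J : Ideal U := I.map θ
  haveI : IsAdicComplete J U := isAdicComplete_level k A B n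
  let f : (m : ℕ) → C →+* U ⧸ J ^ m := fun m =>
    (Ideal.quotientMap (J ^ m) θ ((Ideal.map_le_iff_le_comap).1 (Ideal.map_pow θ I m).le)).comp
      (AdicCompletion.evalₐ I m).toRingHom
  have hf : ∀ {a b : ℕ} (hle : a ≤ b), (Ideal.Quotient.factorPow J hle).comp (f b) = f a := by
    intro a b hle
    refine RingHom.ext fun x => ?_
    obtain ⟨s, rfl⟩ := AdicCompletion.mk_surjective I T x
    simp only [f, RingHom.comp_apply, AlgHom.toRingHom_eq_coe, RingHom.coe_coe, AdicCompletion.evalₐ_mk,
      Ideal.quotientMap_mk, Ideal.Quotient.factor_mk]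
    erw [AdicCompletion.evalₐ_mk, AdicCompletion.evalₐ_mk]
    refine Ideal.Quotient.eq.2 ?_
    rw [← map_sub]
    refine (Ideal.map_pow θ I a).le (Ideal.mem_map_of_mem θ ?_)
    have := s.property hle
    rw [SModEq.sub_mem, smul_eq_mul, Ideal.mul_top] at this
    rw [← neg_sub]
    exact (Ideal.neg_mem_iff _).2 this
  let ψ := IsAdicComplete.liftRingHom J f (fun hle => hf hle)
  have hψo : ∀ t, ψ (o k A B t) = θ t := fun t =>
    IsHausdorff.eq_iff_smodEq (I := J) |>.2 fun m => by
      rw [SModEq.sub_mem, smul_eq_mul, Ideal.mul_top, ← Ideal.Quotient.eq]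
      refine (IsAdicComplete.mk_liftRingHom J f (fun hle => hf hle) m _).trans ?_
      simp only [f, RingHom.comp_apply, AlgHom.toRingHom_eq_coe, RingHom.coe_coe]
      erw [AlgHom.commutes]
      rfl
  haveI : IsNoetherianRing C := isNoetherianRing_cTensor k A B
  refine ⟨ψ, hψo, le_antisymm (fun c hc => ?_) ?_⟩
  · let K := (mA k A B ^ n).map (o k A B)
    have happ : ∀ m, c ∈ K ⊔ (I.map (o k A B)) ^ m := fun m => by
      obtain ⟨t, ht⟩ := exists_sub_mem k A B m c
      have h1 : θ t ∈ J ^ m := by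
        rw [← Ideal.Quotient.eq_zero_iff_mem, ← hψo t]
        have h2 : ψ (o k A B t) = ψ c - ψ (c - o k A B t) := by rw [map_sub]; ring
        rw [h2, RingHom.mem_ker.1 hc, zero_sub, map_neg, neg_eq_zero, Ideal.Quotient.eq_zero_iff_mem]
        rw [show J ^ m = ((I ^ m).map (o k A B)).map ψ by
          rw [Ideal.map_map, Ideal.map_pow, show ψ.comp (o k A B) = θ from RingHom.ext hψo]]
        exact Ideal.mem_map_of_mem ψ ht
      rw [← Ideal.map_pow, Ideal.mem_map_iff_of_surjective θ (theta_surjective k A B n)] at h1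
      obtain ⟨t', ht', htt⟩ := h1
      have h3 : t - t' ∈ mA k A B ^ n := by
        rw [← ker_theta, RingHom.mem_ker, map_sub, sub_eq_zero]
        exact htt.symm
      have h4 : c = o k A B (t - t') + ((c - o k A B t) + o k A B t') := by rw [map_sub]; ring
      rw [h4, ← Ideal.map_pow]
      exact add_mem (Ideal.mem_sup_left (Ideal.mem_map_of_mem _ h3))
        (add_mem (Ideal.mem_sup_right ht) (Ideal.mem_sup_right (Ideal.mem_map_of_mem _ ht')))
    exact mem_of_forall_mem_sup_pow (map_cTensorIdeal_le_jacobson k A B) happ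
  · rw [Ideal.map_le_iff_le_comap, ← ker_theta]
    intro t ht
    exact (hψo t).trans ht

theorem exists_quotient_equiv (n : ℕ) :
    ∃ e : (EGA4.CTensor k A B ⧸ (mA k A B ^ n).map (o k A B)) ≃+* B ⊗[k] (A ⧸ maximalIdeal A ^ n),
      ∀ t, e (Ideal.Quotient.mk _ (o k A B t)) = theta k A B n t := by
  obtain ⟨ψ, hψ, hker⟩ := exists_psi k A B n
  have hsur : Function.Surjective ψ := fun u => by
    obtain ⟨t, rfl⟩ := theta_surjective k A B n u
    exact ⟨_, hψ t⟩
  refine ⟨(Ideal.quotEquivOfEq hker.symm).trans (RingHom.quotientKerEquivOfSurjective hsur), fun t => ?_⟩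
  rw [RingEquiv.trans_apply, Ideal.quotEquivOfEq_mk]
  exact hψ t

theorem flat_left : Module.Flat A (EGA4.CTensor k A B) := by
  let C := EGA4.CTensor k A B
  haveI := isNoetherianRing_cTensor k A B
  have hφ : algebraMap A C = (o k A B).comp (Algebra.TensorProduct.includeLeft : A →ₐ[k] A ⊗[k] B).toRingHom := rfl
  rw [← RingHom.flat_algebraMap_iff]
  refine FormalH7.ringHomFlat_of_forall_flat_quotient_pow _ (maximalIdeal A) ?_ fun n => ?_
  · rw [hφ, ← Ideal.map_map]
    exact (Ideal.map_mono le_sup_left).trans (map_cTensorIdeal_le_jacobson k A B)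
  · obtain ⟨e, he⟩ := exists_quotient_equiv k A B n
    let An := A ⧸ maximalIdeal A ^ n
    have hmap : (maximalIdeal A ^ n).map (algebraMap A C) = (mA k A B ^ n).map (o k A B) := by
      rw [hφ, ← Ideal.map_map, ← Ideal.map_pow]
      rfl
    let e' : (C ⧸ (maximalIdeal A ^ n).map (algebraMap A C)) ≃+* An ⊗[k] B :=
      ((Ideal.quotEquivOfEq hmap).trans e).trans (Algebra.TensorProduct.comm k B An).toRingEquiv
    have hfl : (algebraMap An (An ⊗[k] B)).Flat := RingHom.flat_algebraMap_iff.2 inferInstance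
    have h2 := hfl.comp (RingHom.Flat.of_bijective e'.symm.bijective : e'.symm.toRingHom.Flat)
    convert h2 using 1
    refine Ideal.Quotient.ringHom_ext (RingHom.ext fun a => ?_)
    apply e'.injective
    simp only [RingHom.comp_apply, RingEquiv.toRingHom_eq_coe, RingEquiv.coe_toRingHom, RingEquiv.apply_symm_apply,
      Ideal.quotientMap_mk]
    simp only [e', RingEquiv.trans_apply, Ideal.quotEquivOfEq_mk]
    refine (congrArg (Algebra.TensorProduct.comm k B An)
      ((congrArg e (Ideal.quotEquivOfEq_mk hmap (algebraMap A C a))).trans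
        ((he (a ⊗ₜ 1)).trans (theta_tmul k A B n a 1)))).trans ?_
    rfl

attribute [local instance] Algebra.TensorProduct.rightAlgebra in
theorem flat_right : Module.Flat B (EGA4.CTensor k A B) := by
  let C := EGA4.CTensor k A B
  let I := EGA4.cTensorIdeal k A B
  haveI := isNoetherianRing_cTensor k A B
  let ιB : B →+* C := (o k A B).comp (Algebra.TensorProduct.includeRight : B →ₐ[k] A ⊗[k] B).toRingHom
  have hsmul : ∀ (b : B) (c : C), b • c = ιB b * c := fun b c => by
    refine Eq.trans ?_ (Algebra.smul_def ((1 : A) ⊗ₜ[k] b) c)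
    exact (algebraMap_smul (A ⊗[k] B) b c).symm
  let J : Ideal C := (mA k A B).map (o k A B)
  haveI : IsAdicComplete (I.map (o k A B)) C := AdicCompletion.isAdicComplete_self I (cTensorIdeal_fg k A B)
  have hJ : J ≤ I.map (o k A B) := Ideal.map_mono le_sup_left
  haveI hJc : IsAdicComplete J C := isAdicComplete_of_le hJ
  let F : ℕ → Submodule B C := fun n =>
    { carrier := (J ^ n : Ideal C)
      add_mem' := fun ha hb => add_mem ha hb
      zero_mem' := zero_mem _
      smul_mem' := fun b c hc => by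
        rw [hsmul]
        exact Ideal.mul_mem_left _ _ hc }
  have hmem : ∀ n c, c ∈ F n ↔ c ∈ J ^ n := fun n c => Iff.rfl
  refine flat_of_complete_filtration B C F (fun a b hab c hc => Ideal.pow_le_pow_right hab hc)
    (eq_top_iff.2 fun c _ => by rw [hmem, pow_zero, Ideal.one_eq_top]; trivial) (fun n => ?_) (fun x hx => ?_)
    (fun s hs => ?_)
  · obtain ⟨ψ, hψ, hker⟩ := exists_psi k A B n
    have hsur : Function.Surjective ψ := fun u => by
      obtain ⟨t, rfl⟩ := theta_surjective k A B n u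
      exact ⟨_, hψ t⟩
    let ψl : C →ₗ[B] B ⊗[k] (A ⧸ maximalIdeal A ^ n) :=
      { toFun := ψ
        map_add' := map_add ψ
        map_smul' := fun b c => by
          rw [hsmul, map_mul, RingHom.id_apply]
          refine Eq.trans ?_ (Algebra.smul_def b (ψ c)).symm
          congr 1
          show ψ (o k A B ((1 : A) ⊗ₜ b)) = _
          rw [hψ, theta_tmul, map_one]
          rfl }
    have hk : LinearMap.ker ψl = F n := by
      ext c
      rw [LinearMap.mem_ker, hmem, ← Ideal.map_pow, ← hker, RingHom.mem_ker]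
      rfl
    haveI : Module.Projective B (B ⊗[k] (A ⧸ maximalIdeal A ^ n)) := inferInstance
    exact Module.Projective.of_equiv ((Submodule.quotEquivOfEq _ _ hk.symm).trans
      (LinearMap.quotKerEquivOfSurjective ψl hsur)).symm
  · exact IsHausdorff.haus' (I := J) x fun n => by
      rw [SModEq.sub_mem, sub_zero, smul_eq_mul, Ideal.mul_top]
      exact hx n
  · obtain ⟨L, hL⟩ := IsPrecomplete.prec (I := J) inferInstance (f := s) fun {a b} hab => by
      rw [SModEq.sub_mem, smul_eq_mul, Ideal.mul_top]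
      induction b, hab using Nat.le_induction with
      | base => rw [sub_self]; exact zero_mem _
      | succ b hb ih =>
        rw [← sub_sub_sub_cancel_right (s a) (s (b + 1)) (s b)]
        exact sub_mem ih (Ideal.pow_le_pow_right hb (hs b))
    refine ⟨L, fun n => ?_⟩
    have := hL n
    rw [SModEq.sub_mem, smul_eq_mul, Ideal.mul_top] at this
    rw [hmem, ← neg_sub]
    exact (Ideal.neg_mem_iff _).2 this

end Groth.Agent.CT6
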